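import Groth.Agent.KFlatLib.Stalk

/-!
# Detecting isomorphisms and colimits on stalks
-/

set_option autoImplicit false
set_option linter.style.haveILetI false

universe u

open CategoryTheory CategoryTheory.Limits AlgebraicGeometry TopologicalSpace Opposite

namespace FiltSectLib

variable {X : Scheme.{u}}

theorem isIso_of_stalks {M N : X.Modules} (φ : M ⟶ N)
    (h : ∀ x : X, IsIso ((DerSch.stalkFunctor X x).map φ)) : IsIso φ := by
  have : Mono φ := by
    rw [Preadditive.mono_iff_isZero_kernel, KFlatLib.isZero_iff_forall_stalk]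
    intro x
    have := h x
    exact (isZero_kernel_of_mono _).of_iso (PreservesKernel.iso (DerSch.stalkFunctor X x) φ)
  have : Epi φ := by
    rw [Preadditive.epi_iff_isZero_cokernel, KFlatLib.isZero_iff_forall_stalk]
    intro x
    have := h x
    exact (isZero_cokernel_of_epi _).of_iso (PreservesCokernel.iso (DerSch.stalkFunctor X x) φ)
  exact isIso_of_mono_of_epi _

theorem isIso_stalk_of_bijective {M N : X.Modules} (φ : M ⟶ N) (V : X.Opens)
    (h : ∀ U : X.Opens, U ≤ V → Function.Bijective (φ.app U)) (x : X) (hx : x ∈ V) :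
    IsIso ((DerSch.stalkFunctor X x).map φ) := by
  rw [ConcreteCategory.isIso_iff_bijective]
  refine ⟨(injective_iff_map_eq_zero _).2 fun y hy => ?_, fun y => ?_⟩
  · obtain ⟨W, hxW, s, rfl⟩ := TopCat.Presheaf.germ_exist M.presheaf y
    have e : N.presheaf.germ W x hxW (φ.app W s) = N.presheaf.germ W x hxW 0 :=
      ((DerSch.stalkFunctor_map_germ x φ W hxW s).symm.trans hy).trans (map_zero _).symm
    obtain ⟨W', hxW', i, i', hW'⟩ := TopCat.Presheaf.germ_eq N.presheaf x hxW hxW _ _ e
    let U : X.Opens := W' ⊓ V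
    have h0 : φ.app U (M.presheaf.map (homOfLE (inf_le_left.trans i.le : U ≤ W)).op s) = 0 := by
      refine (congr($(φ.mapPresheaf.naturality (homOfLE (inf_le_left.trans i.le : U ≤ W)).op) s)).trans ?_
      change N.presheaf.map ((homOfLE (inf_le_left : U ≤ W')) ≫ i).op (φ.app W s) = 0
      rw [op_comp, Functor.map_comp, ConcreteCategory.comp_apply, hW', map_zero, map_zero]
    have hs : M.presheaf.map (homOfLE (inf_le_left.trans i.le : U ≤ W)).op s = 0 :=
      (h U inf_le_right).1 (h0.trans (map_zero _).symm)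
    refine ((TopCat.Presheaf.germ_res_apply M.presheaf (homOfLE (inf_le_left.trans i.le : U ≤ W)) x
      ⟨hxW', hx⟩ s).symm.trans (congrArg _ hs)).trans (map_zero _)
  · obtain ⟨W, hxW, t, rfl⟩ := TopCat.Presheaf.germ_exist N.presheaf y
    let U : X.Opens := W ⊓ V
    obtain ⟨s, hs⟩ := (h U inf_le_right).2 (N.presheaf.map (homOfLE (inf_le_left : U ≤ W)).op t)
    refine ⟨M.presheaf.germ U x ⟨hxW, hx⟩ s, ?_⟩
    refine (DerSch.stalkFunctor_map_germ x φ U ⟨hxW, hx⟩ s).trans ?_
    rw [hs]
    exact TopCat.Presheaf.germ_res_apply N.presheaf (homOfLE (inf_le_left : U ≤ W)) x ⟨hxW, hx⟩ t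

/-- Stalks jointly reflect colimits. -/
theorem isColimit_of_stalks {J : Type u} [SmallCategory J] {D : J ⥤ X.Modules} (c : Cocone D)
    (h : ∀ x : X, Nonempty (IsColimit ((DerSch.stalkFunctor X x).mapCocone c))) :
    Nonempty (IsColimit c) := by
  let hc' := colimit.isColimit D
  haveI : IsIso (hc'.desc c) := isIso_of_stalks _ fun x => by
    let σ := DerSch.stalkFunctor X x
    let h₁ := isColimitOfPreserves σ hc'
    obtain ⟨h₂⟩ := h x
    have e : σ.map (hc'.desc c) = (h₁.coconePointUniqueUpToIso h₂).hom := h₁.hom_ext fun j =>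
      ((σ.map_comp _ _).symm.trans (congrArg σ.map (hc'.fac c j))).trans
        (h₁.comp_coconePointUniqueUpToIso_hom h₂ j).symm
    rw [e]
    infer_instance
  exact ⟨IsColimit.ofPointIso (i := ‹_›) hc'⟩

end FiltSectLib
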