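import Groth.Agent.DerLib.KInjRes
import Groth.Agent.DerLib.KInjUse
import Groth.Agent.DerLib.Horseshoe
import Mathlib.Algebra.Homology.DerivedCategory.TStructure
import Mathlib.Algebra.Homology.Embedding.CochainComplex

/-!
# Functorial bounded below injective resolutions
-/

set_option autoImplicit false
set_option linter.style.haveILetI false

universe v u w

open CategoryTheory CategoryTheory.Limits HomologicalComplex MorphismProperty
open Groth.Agent.DerLib Groth.Agent.DerLib.KInjRes Groth.Agent.DerLib.AcyclicMono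
open Groth.Agent.DerLib.KInjLift

namespace FiltSectLib

variable {A : Type u} [Category.{v} A] [Abelian A] [IsGrothendieckAbelian.{v} A]

open ZeroObject in
/-- The map to zero, functorially. -/
noncomputable def toZeroArrow : CochainComplex A ℤ ⥤ Arrow (CochainComplex A ℤ) where
  obj K := Arrow.mk (0 : K ⟶ 0)
  map g := Arrow.homMk g (𝟙 _) (by simp)
  map_id K := by ext <;> rfl
  map_comp g h := by
    ext
    · rfl
    · exact (Category.id_comp _).symm

/-- A functorial K-injective resolution. -/
theorem exists_kInjFunctor : ∃ (R : CochainComplex A ℤ ⥤ CochainComplex A ℤ) (η : 𝟭 _ ⟶ R),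
    ∀ K, (R.obj K).IsKInjective ∧ QuasiIso (η.app K) ∧ ∀ n, Injective ((R.obj K).X n) := by
  haveI := hasSmallObjectArgument (A := A)
  let data := functorialFactorizationData (W A).rlp.llp (W A).rlp
  have hle : (W A).rlp.llp ≤ T := by
    rw [llp_rlp_of_hasSmallObjectArgument]
    trans (transfiniteCompositions.{v} (T (A := A))).retracts
    · apply retracts_monotone
      apply transfiniteCompositions_monotone
      simp only [pushouts_le_iff]
      exact (coproducts_monotone W_le).trans coproducts_le
    · exact (retracts_monotone (transfiniteCompositions_le (T (A := A)))).trans (retracts_le _)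
  let η : 𝟭 _ ⟶ toZeroArrow (A := A) ⋙ data.Z :=
    { app := fun K => data.i.app (toZeroArrow.obj K)
      naturality := fun K L g => data.i.naturality (toZeroArrow.map g) }
  refine ⟨toZeroArrow ⋙ data.Z, η, fun K => ?_⟩
  have hext : HasExt (data.Z.obj (toZeroArrow.obj K)) := by
    refine hasExt_of_W fun x φ => ?_
    have hz : IsZero ((toZeroArrow.obj K).right) := isZero_zero _
    have sq : CommSq φ x.2.1.arrow (data.p.app (toZeroArrow.obj K))
        (0 : cx x.1 ⟶ (toZeroArrow.obj K).right) := ⟨hz.eq_of_tgt _ _⟩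
    haveI := data.hp (toZeroArrow.obj K) _ ⟨x⟩
    exact ⟨sq.lift, sq.fac_left⟩
  exact ⟨isKInjective_of_hasExt hext, (HomologicalComplex.mem_quasiIso_iff _).1
    (hle _ (data.hi (toZeroArrow.obj K))).2, injective_of_hasExt hext⟩

variable [HasDerivedCategory.{w} A]

/-- For a K-injective complex with cohomology in degrees `≥ n`, the opcycles in degree `n` are
injective. -/
theorem injective_opcycles (R : CochainComplex A ℤ) [R.IsKInjective] [∀ i, Injective (R.X i)] (n : ℤ)
    [R.IsGE n] : Injective (R.opcycles n) := by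
  haveI : EnoughInjectives A := IsGrothendieckAbelian.enoughInjectives.{v}
  haveI : (DerivedCategory.Q.obj R).IsGE n := (DerivedCategory.isGE_Q_obj_iff R n).2 inferInstance
  obtain ⟨L, hL, ⟨eL⟩⟩ := DerivedCategory.exists_iso_Q_obj_of_isGE (DerivedCategory.Q.obj R) n
  obtain ⟨I, i, hI, hinj, -, hi⟩ := Horseshoe.exists_injective_resolution L n
  haveI := hI
  haveI := hinj
  haveI := hi
  haveI : I.IsKInjective := CochainComplex.isKInjective_of_injective I n
  obtain ⟨u, hu⟩ := KInjUse.Q_map_surjective R I (eL.hom ≫ DerivedCategory.Q.map i)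
  haveI : IsIso (DerivedCategory.Q.map u) := by rw [hu]; infer_instance
  obtain ⟨v, hv⟩ := KInjUse.Q_map_surjective I R (inv (DerivedCategory.Q.map u))
  have h0 : (HomotopyCategory.quotient A (ComplexShape.up ℤ)).map (u ≫ v - 𝟙 R) = 0 :=
    KInjUse.quotient_eq_zero_of_Q (by rw [Functor.map_sub, Functor.map_comp, hv]; simp)
  have H : Homotopy (u ≫ v - 𝟙 R) 0 :=
    HomotopyCategory.homotopyOfEq _ _ (h0.trans (Functor.map_zero _ _ _).symm)
  let p := R.pOpcycles n
  have hu0 : R.d (n - 1) n ≫ u.f n = 0 := by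
    rw [← u.comm]
    exact (I.isZero_of_isStrictlyGE n (n - 1) (by omega)).eq_of_tgt _ _ =≫ _ |>.trans zero_comp
  let ub : R.opcycles n ⟶ I.X n := R.descOpcycles (u.f n) (n - 1) (by simp) hu0
  let db : R.opcycles n ⟶ R.X (n + 1) := R.fromOpcycles n (n + 1)
  have key : 𝟙 (R.opcycles n) = ub ≫ v.f n ≫ p - db ≫ H.hom (n + 1) n ≫ p := by
    have hc := H.comm n
    rw [dNext_eq _ (show (ComplexShape.up ℤ).Rel n (n + 1) from rfl),
      prevD_eq _ (show (ComplexShape.up ℤ).Rel (n - 1) n by simp), zero_f, add_zero, sub_f_apply,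
      comp_f, id_f] at hc
    have hc' := congrArg (· ≫ p) hc
    simp only [Preadditive.sub_comp, Preadditive.add_comp, Category.assoc, Category.id_comp] at hc'
    have hdp : R.d (n - 1) n ≫ p = 0 := R.d_pOpcycles (n - 1) n
    rw [hdp, comp_zero, add_zero] at hc'
    rw [← cancel_epi p, Category.comp_id, Preadditive.comp_sub, p_descOpcycles_assoc]
    erw [p_fromOpcycles_assoc]
    rw [← hc']
    exact (sub_sub_cancel _ _).symm
  refine ⟨fun g f _ => ⟨Injective.factorThru (g ≫ ub) f ≫ v.f n ≫ p -
    Injective.factorThru (g ≫ db) f ≫ H.hom (n + 1) n ≫ p, ?_⟩⟩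
  rw [Preadditive.comp_sub, Injective.comp_factorThru_assoc, Injective.comp_factorThru_assoc,
    Category.assoc, Category.assoc, ← Preadditive.comp_sub, ← key, Category.comp_id]

theorem injective_truncGE (R : CochainComplex A ℤ) [R.IsKInjective] [∀ i, Injective (R.X i)] (n : ℤ)
    [R.IsGE n] (i : ℤ) : Injective ((R.truncGE n).X i) := by
  rcases lt_trichotomy i n with h | h | h
  · exact ((R.truncGE n).isZero_of_isStrictlyGE n i h).injective
  · haveI := injective_opcycles R n
    subst h
    exact Injective.of_iso (HomologicalComplex.truncGEXIsoOpcycles R (ComplexShape.embeddingUpIntGE i) (i := 0)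
      (by simp) (by rw [ComplexShape.boundaryGE_embeddingUpIntGE_iff])).symm inferInstance
  · obtain ⟨k, hk⟩ := Int.le.dest h.le
    exact Injective.of_iso (HomologicalComplex.truncGEXIso R (ComplexShape.embeddingUpIntGE n) (i := k)
      (by simpa using hk) (by rw [ComplexShape.boundaryGE_embeddingUpIntGE_iff]; omega)).symm
        inferInstance

/-- A functorial injective resolution of complexes with cohomology in degrees `≥ n`. -/
theorem exists_resolutionGE (n : ℤ) :
    ∃ (L : CochainComplex A ℤ ⥤ CochainComplex A ℤ) (η : 𝟭 _ ⟶ L),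
      ∀ K, (L.obj K).IsStrictlyGE n ∧ (K.IsGE n → QuasiIso (η.app K) ∧
        ∀ i, Injective ((L.obj K).X i)) := by
  obtain ⟨R, η, hR⟩ := exists_kInjFunctor (A := A)
  let L := R ⋙ (ComplexShape.embeddingUpIntGE n).truncGEFunctor A
  let η' : 𝟭 _ ⟶ L :=
    η ≫ R.rightUnitor.inv ≫
      Functor.whiskerLeft R ((ComplexShape.embeddingUpIntGE n).πTruncGENatTrans A)
  refine ⟨L, η', fun K => ⟨(inferInstance : ((R.obj K).truncGE n).IsStrictlyGE n), fun hK => ?_⟩⟩
  haveI := hK
  haveI := (hR K).1
  haveI := (hR K).2.1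
  haveI := (hR K).2.2
  haveI : (R.obj K).IsGE n := by
    rw [CochainComplex.isGE_iff]
    intro i hi
    exact (exactAt_iff_of_quasiIsoAt (η.app K) i).1 (K.exactAt_of_isGE n i hi)
  haveI : QuasiIso ((R.obj K).πTruncGE n) :=
    (HomologicalComplex.quasiIso_πTruncGE_iff_isSupported _ _).2 inferInstance
  refine ⟨?_, injective_truncGE (R.obj K) n⟩
  have e : η'.app K = η.app K ≫ (R.obj K).πTruncGE n := by
    simp [η']
    rfl
  rw [e]
  exact @quasiIso_comp _ _ _ _ _ _ _ _ (η.app K) ((R.obj K).πTruncGE n) _ _ _ (hR K).2.1 ‹_›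

end FiltSectLib
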