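import Groth.Agent.FiltSectLib.Push
import Groth.Agent.FiltSectLib.Resol
import Groth.Agent.FiltSectLib.Stalks
import Groth.Agent.QRlimLib.AcyclicPush
import Groth.Agent.FreeResLib.Colimit
import Groth.Agent.KFlatLib.DerivedCoprod

/-!
# `Rf_*` commutes with exact colimits
-/

set_option autoImplicit false
set_option linter.style.haveILetI false

universe u w w' v v'

open CategoryTheory CategoryTheory.Limits AlgebraicGeometry Pretriangulated HomologicalComplex

attribute [local instance] HasDerivedCategory.standard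

namespace FiltSectLib

section Generic

variable {J : Type w} [Category.{w'} J] {B : Type v} [Category.{v'} B] {F F' : J ⥤ B}
  {c : Cocone F} {c' : Cocone F'} (τ : F ⟶ F') [∀ j, IsIso (τ.app j)] (g : c.pt ⟶ c'.pt) [IsIso g]

theorem isColimit_source (w : ∀ j, c.ι.app j ≫ g = τ.app j ≫ c'.ι.app j) (h : IsColimit c') :
    Nonempty (IsColimit c) := by
  haveI : IsIso τ := NatIso.isIso_of_isIso_app τ
  exact ⟨((IsColimit.precomposeHomEquiv (asIso τ) c').symm h).ofIsoColimit
    (Cocone.ext (asIso g).symm fun j => by simp [← w j])⟩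

theorem isColimit_target (w : ∀ j, c.ι.app j ≫ g = τ.app j ≫ c'.ι.app j) (h : IsColimit c) :
    Nonempty (IsColimit c') := by
  haveI : IsIso τ := NatIso.isIso_of_isIso_app τ
  exact ⟨((IsColimit.precomposeInvEquiv (asIso τ) c).symm h).ofIsoColimit
    (Cocone.ext (asIso g) fun j => by simp [w j])⟩

end Generic

section Complexes

variable {A : Type v} [Category.{v'} A] [Abelian A] {J : Type w} [Category.{w'} J]
  [HasColimitsOfShape J A] [HasExactColimitsOfShape J A] {K K' : J ⥤ CochainComplex A ℤ}

/-- A map of exact colimits of complexes is an isomorphism on a cohomology object if all its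
components are. -/
theorem isIso_homologyMap_colimit {c : Cocone K} (hc : IsColimit c) {c' : Cocone K'}
    (hc' : IsColimit c') (τ : K ⟶ K') (g : c.pt ⟶ c'.pt)
    (w : ∀ j, c.ι.app j ≫ g = τ.app j ≫ c'.ι.app j) (q : ℤ)
    (h : ∀ j, IsIso (homologyMap (τ.app j) q)) : IsIso (homologyMap g q) := by
  let H := HomologicalComplex.homologyFunctor A (ComplexShape.up ℤ) q
  haveI : ∀ j, IsIso ((Functor.whiskerRight τ H).app j) := h
  haveI : IsIso (Functor.whiskerRight τ H) := NatIso.isIso_of_isIso_app _
  let h₁ := Groth.Agent.FreeResLib.isColimitHomology K hc q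
  let h₂ := Groth.Agent.FreeResLib.isColimitHomology K' hc' q
  have e : homologyMap g q =
      (IsColimit.coconePointsIsoOfNatIso h₁ h₂ (asIso (Functor.whiskerRight τ H))).hom :=
    h₁.hom_ext fun j => by
      refine Eq.trans ?_ (IsColimit.comp_coconePointsIsoOfNatIso_hom h₁ h₂ _ j).symm
      change H.map (c.ι.app j) ≫ H.map g = H.map (τ.app j) ≫ H.map (c'.ι.app j)
      rw [← H.map_comp, w, H.map_comp]
  rw [e]
  infer_instance

end Complexes

variable {X Y : Scheme.{u}} (f : X ⟶ Y) [DCoh.HasRpush f]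

/-- The comparison `f_* K → Rf_* K`. -/
noncomputable def rpν :
    (Scheme.Modules.pushforward f).mapHomologicalComplex (ComplexShape.up ℤ) ⋙ DerivedCategory.Q ⟶
      DerivedCategory.Q ⋙ DCoh.Rpush f :=
  ((Functor.associator _ _ _).symm ≪≫
      Functor.isoWhiskerRight
        ((Scheme.Modules.pushforward f).mapHomotopyCategoryFactors (ComplexShape.up ℤ)) _ ≪≫
      Functor.associator _ _ _ ≪≫
      Functor.isoWhiskerLeft _ (DerivedCategory.quotientCompQhIso Y.Modules)).inv ≫
    Functor.whiskerLeft _ (QRlimLib.rpushUnit f) ≫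
    ((Functor.associator _ _ _).symm ≪≫
      Functor.isoWhiskerRight (DerivedCategory.quotientCompQhIso X.Modules) _).hom

theorem isIso_rpν (K : CochainComplex X.Modules ℤ)
    [h : IsIso ((QRlimLib.rpushUnit f).app ((HomotopyCategory.quotient X.Modules (ComplexShape.up ℤ)).obj K))] :
    IsIso ((rpν f).app K) := by
  simp only [rpν, NatTrans.comp_app, Functor.whiskerLeft_app]
  exact IsIso.comp_isIso' inferInstance (IsIso.comp_isIso' h inferInstance)

theorem isIso_rpushUnit_of_isIso_rpν (K : CochainComplex X.Modules ℤ) [h : IsIso ((rpν f).app K)] :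
    IsIso ((QRlimLib.rpushUnit f).app
      ((HomotopyCategory.quotient X.Modules (ComplexShape.up ℤ)).obj K)) := by
  simp only [rpν, NatTrans.comp_app, Functor.whiskerLeft_app] at h
  exact @IsIso.of_isIso_comp_right _ _ _ _ _ _ _ inferInstance
    (@IsIso.of_isIso_comp_left _ _ _ _ _ _ _ inferInstance h)

/-- `K ↦ H^m(Rf_* K)`. -/
noncomputable abbrev rpH (m : ℤ) : CochainComplex X.Modules ℤ ⥤ Y.Modules :=
  DerivedCategory.Q ⋙ DCoh.Rpush f ⋙ DerivedCategory.homologyFunctor Y.Modules m

/-- `K ↦ H^m(f_* K)`. -/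
noncomputable abbrev pcH (m : ℤ) : CochainComplex X.Modules ℤ ⥤ Y.Modules :=
  (Scheme.Modules.pushforward f).mapHomologicalComplex (ComplexShape.up ℤ) ⋙
    HomologicalComplex.homologyFunctor Y.Modules (ComplexShape.up ℤ) m

/-- The comparison on cohomology. -/
noncomputable def rpνH (m : ℤ) : pcH f m ⟶ rpH f m :=
  Functor.whiskerLeft _ (DerivedCategory.homologyFunctorFactors Y.Modules m).inv ≫
    (Functor.associator _ _ _).inv ≫ Functor.whiskerRight (rpν f) _ ≫ (Functor.associator _ _ _).hom

theorem isIso_rpνH (m : ℤ) (K : CochainComplex X.Modules ℤ) [IsIso ((rpν f).app K)] :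
    IsIso ((rpνH f m).app K) := by
  simp only [rpνH, NatTrans.comp_app, Functor.whiskerLeft_app, Functor.whiskerRight_app,
    Functor.associator_inv_app, Functor.associator_hom_app]
  infer_instance

theorem isIso_rpH_map (m : ℤ) {K L : CochainComplex X.Modules ℤ} (φ : K ⟶ L) [QuasiIso φ] :
    IsIso ((rpH f m).map φ) :=
  inferInstanceAs (IsIso ((DerivedCategory.homologyFunctor Y.Modules m).map
    ((DCoh.Rpush f).map (DerivedCategory.Q.map φ))))

theorem isIso_rpν_injective {K : CochainComplex X.Modules ℤ} (n : ℤ) [K.IsStrictlyGE n]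
    (hinj : ∀ i, Injective (K.X i)) : IsIso ((rpν f).app K) := by
  haveI := hinj
  haveI : K.IsKInjective := CochainComplex.isKInjective_of_injective K n
  haveI := Groth.Agent.DerLib.KInjDerived.isIso_app (DCoh.Rpush f) (QRlimLib.rpushUnit f)
    KFlatLib.enoughKInj_modules K
  exact isIso_rpν f K

section Colim

variable {J : Type u} [SmallCategory J] [HasExactColimitsOfShape J X.Modules]
  [HasExactColimitsOfShape J Y.Modules] [PreservesColimitsOfShape J (Scheme.Modules.pushforward f)]

omit [DCoh.HasRpush f] in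
theorem nonempty_isColimit_push {K : J ⥤ CochainComplex X.Modules ℤ} {c : Cocone K}
    (hc : IsColimit c) : Nonempty (IsColimit
      (((Scheme.Modules.pushforward f).mapHomologicalComplex (ComplexShape.up ℤ)).mapCocone c)) :=
  ⟨HomologicalComplex.isColimitOfEval _ _ fun i =>
    isColimitOfPreserves (Scheme.Modules.pushforward f) (isColimitOfPreserves (eval _ _ i) hc)⟩

/-- Colimit of acyclic complexes. -/
theorem nonempty_isColimit_rpH {K : J ⥤ CochainComplex X.Modules ℤ} {c : Cocone K} (hc : IsColimit c)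
    (h : ∀ j, IsIso ((rpν f).app (K.obj j))) (hpt : IsIso ((rpν f).app c.pt)) (m : ℤ) :
    Nonempty (IsColimit ((rpH f m).mapCocone c)) := by
  haveI : ∀ j, IsIso ((Functor.whiskerLeft K (rpνH f m)).app j) := fun j =>
    have := h j
    isIso_rpνH f m (K.obj j)
  haveI := isIso_rpνH f m c.pt
  obtain ⟨hp⟩ := nonempty_isColimit_push f hc
  exact isColimit_target (c := (pcH f m).mapCocone c) (c' := (rpH f m).mapCocone c)
    (Functor.whiskerLeft K (rpνH f m)) ((rpνH f m).app c.pt)
    (fun j => (rpνH f m).naturality (c.ι.app j))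
    (Groth.Agent.FreeResLib.isColimitHomology
      (K ⋙ (Scheme.Modules.pushforward f).mapHomologicalComplex (ComplexShape.up ℤ)) hp m)

variable [QuasiCompact f] [QuasiSeparated f]
  (hJ : ∀ (D : J ⥤ X.Modules) (c : Cocone D), IsColimit c → (∀ j, Injective (D.obj j)) → QcFlasqueM c.pt)

include hJ

/-- Colimits of bounded below complexes of injectives compute `Rf_*`. -/
theorem isIso_rpν_colimit_injective {L : J ⥤ CochainComplex X.Modules ℤ} {c : Cocone L}
    (hc : IsColimit c) (n : ℤ) (hge : ∀ j, (L.obj j).IsStrictlyGE n)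
    (hinj : ∀ j i, Injective ((L.obj j).X i)) : IsIso ((rpν f).app c.pt) := by
  haveI : EnoughInjectives X.Modules := IsGrothendieckAbelian.enoughInjectives.{u}
  haveI : c.pt.IsStrictlyGE n := by
    rw [CochainComplex.isStrictlyGE_iff]
    intro i hi
    rw [IsZero.iff_id_eq_zero]
    exact (isColimitOfPreserves (eval _ _ i) hc).hom_ext fun j =>
      (@CochainComplex.isZero_of_isStrictlyGE _ _ _ (L.obj j) n i hi (hge j)).eq_of_src _ _
  haveI := QRlimLib.isIso_rpushUnit_of_bddBelow f c.pt n fun i p hp =>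
    isZero_Rpush_of_qcFlasque f (c.pt.X i)
      (hJ _ _ (isColimitOfPreserves (eval _ _ i) hc) fun j => hinj j i) p hp
  exact isIso_rpν f c.pt

/-- `Rf_*` commutes with colimits of uniformly bounded below complexes. -/
theorem nonempty_isColimit_rpH_of_isGE {C : J ⥤ CochainComplex X.Modules ℤ} {c : Cocone C}
    (hc : IsColimit c) (n : ℤ) (hC : ∀ j, (C.obj j).IsGE n) (m : ℤ) :
    Nonempty (IsColimit ((rpH f m).mapCocone c)) := by
  obtain ⟨L, η, hL⟩ := exists_resolutionGE (A := X.Modules) n
  haveI := fun j => ((hL (C.obj j)).2 (hC j)).1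
  let c' := colimit.cocone (C ⋙ L)
  let hc' : IsColimit c' := colimit.isColimit (C ⋙ L)
  let τ : C ⟶ C ⋙ L := C.rightUnitor.inv ≫ Functor.whiskerLeft C η
  haveI : ∀ j, QuasiIso (τ.app j) := fun j => by
    have e : τ.app j = η.app (C.obj j) := by simp [τ]
    rw [e]
    infer_instance
  let g : c.pt ⟶ c'.pt := hc.map c' τ
  have w : ∀ j, c.ι.app j ≫ g = τ.app j ≫ c'.ι.app j := fun j => hc.ι_map c' τ j
  haveI : QuasiIso g := ⟨fun q => (quasiIsoAt_iff_isIso_homologyMap _ _).2
    (isIso_homologyMap_colimit hc hc' τ g w q fun j => inferInstance)⟩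
  obtain ⟨h'⟩ := nonempty_isColimit_rpH f hc'
    (fun j => @isIso_rpν_injective _ _ f _ ((C ⋙ L).obj j) n (hL (C.obj j)).1
      ((hL (C.obj j)).2 (hC j)).2)
    (isIso_rpν_colimit_injective f hJ hc' n (fun j => (hL (C.obj j)).1)
      fun j => ((hL (C.obj j)).2 (hC j)).2) m
  haveI : ∀ j, IsIso ((Functor.whiskerRight τ (rpH f m)).app j) := fun j => isIso_rpH_map f m (τ.app j)
  haveI := isIso_rpH_map f m g
  exact isColimit_source (c := (rpH f m).mapCocone c) (c' := (rpH f m).mapCocone c')
    (Functor.whiskerRight τ (rpH f m)) ((rpH f m).map g)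
    (fun j => ((rpH f m).map_comp _ _).symm.trans
      ((congrArg (rpH f m).map (w j)).trans ((rpH f m).map_comp _ _))) h'

/-- A colimit of complexes computing `Rf_*` computes `Rf_*`. -/
theorem isIso_rpν_colimit {C : J ⥤ CochainComplex X.Modules ℤ} {c : Cocone C}
    (hc : IsColimit c) (n : ℤ) (hC : ∀ j, (C.obj j).IsGE n)
    (hac : ∀ j, IsIso ((rpν f).app (C.obj j))) : IsIso ((rpν f).app c.pt) := by
  haveI : ∀ m, IsIso ((rpνH f m).app c.pt) := fun m => by
    haveI : ∀ j, IsIso ((Functor.whiskerLeft C (rpνH f m)).app j) := fun j =>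
      have := hac j
      isIso_rpνH f m (C.obj j)
    haveI : IsIso (Functor.whiskerLeft C (rpνH f m)) := NatIso.isIso_of_isIso_app _
    obtain ⟨hp⟩ := nonempty_isColimit_push f hc
    let h₁ := Groth.Agent.FreeResLib.isColimitHomology
      (C ⋙ (Scheme.Modules.pushforward f).mapHomologicalComplex (ComplexShape.up ℤ)) hp m
    obtain ⟨h₂⟩ := nonempty_isColimit_rpH_of_isGE f hJ hc n hC m
    have e : (rpνH f m).app c.pt = (IsColimit.coconePointsIsoOfNatIso h₁ h₂
        (asIso (Functor.whiskerLeft C (rpνH f m)))).hom :=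
      h₁.hom_ext fun j => by
        rw [IsColimit.comp_coconePointsIsoOfNatIso_hom]
        exact (rpνH f m).naturality (c.ι.app j)
    rw [e]
    infer_instance
  rw [DerivedCategory.isIso_iff]
  intro m
  have h := this m
  simp only [rpνH, NatTrans.comp_app, Functor.whiskerLeft_app, Functor.whiskerRight_app,
    Functor.associator_inv_app, Functor.associator_hom_app] at h
  simp only [Category.id_comp, Category.comp_id] at h
  exact @IsIso.of_isIso_comp_left _ _ _ _ _ _ _ inferInstance h

end Colim

end FiltSectLib
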