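import Mathlib.CategoryTheory.Limits.Constructions.Filtered
import Mathlib.CategoryTheory.Limits.Preserves.Finite
import Mathlib.CategoryTheory.Limits.Preserves.Shapes.Products

/-!
# Coproducts from finite ones and filtered colimits
-/

set_option autoImplicit false

universe v v' u u' w

open CategoryTheory CategoryTheory.Limits

namespace FiltSectLib

variable {A : Type u} [Category.{v} A] {B : Type u'} [Category.{v'} B] (F : A ⥤ B)

theorem preservesColimitsOfShape_discrete (α : Type w) [HasFiniteCoproducts A]
    [HasColimitsOfShape (Finset (Discrete α)) A] [HasColimitsOfShape (Discrete α) A]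
    [PreservesFiniteCoproducts F] [PreservesColimitsOfShape (Finset (Discrete α)) F] :
    PreservesColimitsOfShape (Discrete α) F := by
  refine ⟨fun {K} => ?_⟩
  let cc := CoproductsFromFiniteFiltered.liftToFinsetColimitCocone K
  let L := CoproductsFromFiniteFiltered.liftToFinsetObj K
  let hF := isColimitOfPreserves F (colimit.isColimit L)
  let hS : ∀ S : Finset (Discrete α), IsColimit (F.mapCocone (colimit.cocone
      (Discrete.functor fun x : S => K.obj x.1))) := fun S =>
    isColimitOfPreserves F (colimit.isColimit _)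
  refine preservesColimit_of_preserves_colimit_cocone cc.isColimit ?_
  let desc₁ : ∀ (t : Cocone (K ⋙ F)) (S : Finset (Discrete α)), F.obj (L.obj S) ⟶ t.pt := fun t S =>
    (hS S).desc ⟨t.pt, Discrete.natTrans fun x => t.ι.app x.as.1⟩
  have fac₁ : ∀ (t : Cocone (K ⋙ F)) (S : Finset (Discrete α)) (x : S),
      F.map (Sigma.ι (fun x : S => K.obj x.1) x) ≫ desc₁ t S = t.ι.app x.1 := fun t S x =>
    (hS S).fac _ ⟨x⟩
  have ext₁ : ∀ (S : Finset (Discrete α)) {Z : B} (g g' : F.obj (L.obj S) ⟶ Z),
      (∀ x : S, F.map (Sigma.ι (fun x : S => K.obj x.1) x) ≫ g =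
        F.map (Sigma.ι (fun x : S => K.obj x.1) x) ≫ g') → g = g' := fun S _ g g' h =>
    (hS S).hom_ext fun x => h x.as
  let t' : Cocone (K ⋙ F) → Cocone (L ⋙ F) := fun t =>
    { pt := t.pt
      ι :=
        { app := desc₁ t
          naturality := fun S T h => by
            refine ext₁ S _ _ fun x => ?_
            have e : Sigma.ι (fun x : S => K.obj x.1) x ≫ L.map h =
                Sigma.ι (fun x : T => K.obj x.1) ⟨x.1, h.le x.2⟩ :=
              Sigma.ι_desc _ _
            refine ((Category.assoc _ _ _).symm.trans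
              ((congrArg (· ≫ desc₁ t T) ((F.map_comp _ _).symm.trans (congrArg F.map e))).trans
                (fac₁ t T _))).trans ?_
            exact ((congrArg (_ ≫ ·) (Category.comp_id _)).trans (fac₁ t S x)).symm } }
  have hι : ∀ x : Discrete α, cc.cocone.ι.app x =
      Sigma.ι (fun y : ({x} : Finset (Discrete α)) => K.obj y.1) ⟨x, Finset.mem_singleton_self x⟩ ≫
        colimit.ι L {x} := fun x => by
    simp [cc, L, CoproductsFromFiniteFiltered.liftToFinsetColimitCocone]
  refine
    { desc := fun t => hF.desc (t' t)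
      fac := fun t x => ?_
      uniq := fun t g hg => ?_ }
  · change F.map (cc.cocone.ι.app x) ≫ hF.desc (t' t) = t.ι.app x
    rw [hι]
    refine ((congrArg (· ≫ hF.desc (t' t)) (F.map_comp _ _)).trans (Category.assoc _ _ _)).trans ?_
    exact (congrArg (_ ≫ ·) (hF.fac (t' t) {x})).trans (fac₁ t {x} _)
  · refine hF.hom_ext fun S => ext₁ S _ _ fun x => ?_
    rw [hF.fac]
    refine Eq.trans ?_ (fac₁ t S x).symm
    refine ((Category.assoc _ _ _).symm.trans ?_).trans (hg x.1)
    refine congrArg (· ≫ g) ?_
    change F.map _ ≫ F.map (colimit.ι L S) = F.map (cc.cocone.ι.app x.1)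
    rw [hι]
    have hle : ({x.1} : Finset (Discrete α)) ≤ S := by simp [x.2]
    have e : Sigma.ι (fun y : ({x.1} : Finset (Discrete α)) => K.obj y.1)
          ⟨x.1, Finset.mem_singleton_self x.1⟩ ≫ L.map (homOfLE hle) =
        Sigma.ι (fun y : S => K.obj y.1) x := Sigma.ι_desc _ _
    refine (F.map_comp _ _).symm.trans (congrArg F.map ?_)
    refine ((congrArg (· ≫ colimit.ι L S) e.symm).trans (Category.assoc _ _ _)).trans ?_
    exact congrArg (_ ≫ ·) (colimit.w L (homOfLE hle))

end FiltSectLib
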