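import Groth.Agent.FiltSectLib.CommQCoh
import Groth.Agent.KFlatLib.HomologyCoprod

/-!
# `Rf_*` commutes with coproducts
-/

set_option autoImplicit false
set_option linter.style.haveILetI false

universe u v w v' w' t t'

open CategoryTheory CategoryTheory.Limits AlgebraicGeometry HomologicalComplex

namespace FiltSectLib

section Generic

variable {A : Type w} [Category.{v} A] [Abelian A] [IsGrothendieckAbelian.{v} A]
  [HasDerivedCategory.{t} A]

/-- Transfer a colimit cofan along chosen representing complexes. -/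
theorem nonempty_isColimit_cofan {C : Type w'} [Category.{v'} C] (G : DerivedCategory A ⥤ C)
    {ι : Type v} (K : ι → DerivedCategory A) [HasCoproduct K] (P : ι → CochainComplex A ℤ)
    (e : ∀ i, DerivedCategory.Q.obj (P i) ≅ K i)
    (h : IsColimit ((DerivedCategory.Q ⋙ G).mapCocone (Cofan.mk (∐ P) (Sigma.ι P)))) :
    Nonempty (IsColimit (Cofan.mk (G.obj (∐ K)) fun i => G.map (Sigma.ι K i))) := by
  let hC : IsColimit (Cofan.mk (DerivedCategory.Q.obj (∐ P))
      (fun i => (e i).inv ≫ DerivedCategory.Q.map (Sigma.ι P i)) : Cofan K) :=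
    (IsColimit.precomposeInvEquiv (Discrete.natIso fun i => e i.as) _).symm
      (KFlatLib.isColimit_Q_sigma P).some |>.ofIsoColimit (Cocone.ext (Iso.refl _) fun i => by simp)
  let E := hC.coconePointUniqueUpToIso (coproductIsCoproduct K)
  have hE : ∀ i, DerivedCategory.Q.map (Sigma.ι P i) ≫ E.hom = (e i).hom ≫ Sigma.ι K i := fun i => by
    have := IsColimit.comp_coconePointUniqueUpToIso_hom hC (coproductIsCoproduct K) (Discrete.mk i)
    simp only [Cofan.mk_ι_app, Category.assoc, Iso.inv_comp_eq] at this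
    exact this
  let τ : Discrete.functor P ⋙ DerivedCategory.Q ⋙ G ⟶ Discrete.functor fun i => G.obj (K i) :=
    Discrete.natTrans fun i => G.map (e i.as).hom
  haveI : ∀ j, IsIso (τ.app j) := fun j => inferInstanceAs (IsIso (G.map (e j.as).hom))
  exact isColimit_target (c := (DerivedCategory.Q ⋙ G).mapCocone (Cofan.mk (∐ P) (Sigma.ι P)))
    (c' := Cofan.mk (G.obj (∐ K)) fun i => G.map (Sigma.ι K i)) τ (G.map E.hom)
    (fun j => by
      obtain ⟨i⟩ := j
      exact (G.map_comp _ _).symm.trans ((congrArg G.map (hE i)).trans (G.map_comp _ _))) h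

variable {B : Type w'} [Category.{v} B] [Abelian B] [IsGrothendieckAbelian.{v} B]
  [HasDerivedCategory.{t'} B] (R : DerivedCategory A ⥤ DerivedCategory B)

/-- A functor between derived categories preserves a coproduct if it does so on homology. -/
theorem isIso_sigmaDesc_of_homology {ι : Type v} (K : ι → DerivedCategory A) [HasCoproduct K]
    [HasCoproduct fun i => R.obj (K i)] (P : ι → CochainComplex A ℤ)
    (e : ∀ i, DerivedCategory.Q.obj (P i) ≅ K i)
    (h : ∀ m, Nonempty (IsColimit ((DerivedCategory.Q ⋙ R ⋙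
      DerivedCategory.homologyFunctor B m).mapCocone (Cofan.mk (∐ P) (Sigma.ι P))))) :
    IsIso (Sigma.desc fun i => R.map (Sigma.ι K i)) := by
  haveI : HasFiniteBiproducts B := Abelian.hasFiniteBiproducts
  haveI : AB4OfSize.{v} B := AB4.of_AB5 B
  rw [DerivedCategory.isIso_iff]
  intro m
  obtain ⟨h₂⟩ := nonempty_isColimit_cofan (R ⋙ DerivedCategory.homologyFunctor B m) K P e (h m).some
  choose P' e' using fun i => (⟨_, ⟨DerivedCategory.Q.objObjPreimageIso (R.obj (K i))⟩⟩ :
    ∃ P', Nonempty (DerivedCategory.Q.obj P' ≅ R.obj (K i)))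
  let φ := DerivedCategory.homologyFunctorFactors B m
  obtain ⟨hP'⟩ := isColimit_target
    (c := (HomologicalComplex.homologyFunctor B (ComplexShape.up ℤ) m).mapCocone
      (Cofan.mk (∐ P') (Sigma.ι P')))
    (c' := (DerivedCategory.Q ⋙ DerivedCategory.homologyFunctor B m).mapCocone
      (Cofan.mk (∐ P') (Sigma.ι P')))
    (Functor.whiskerLeft _ φ.inv) (φ.inv.app _) (fun j => φ.inv.naturality _)
    (Groth.Agent.FreeResLib.isColimitHomology (Discrete.functor P') (coproductIsCoproduct P') m)
  obtain ⟨h₁⟩ := nonempty_isColimit_cofan (DerivedCategory.homologyFunctor B m)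
    (fun i => R.obj (K i)) P' (fun i => (e' i).some) hP'
  have e₁ : (DerivedCategory.homologyFunctor B m).map (Sigma.desc fun i => R.map (Sigma.ι K i)) =
      (h₁.coconePointUniqueUpToIso h₂).hom := by
    refine h₁.hom_ext fun j => ?_
    obtain ⟨i⟩ := j
    refine Eq.trans ?_ (IsColimit.comp_coconePointUniqueUpToIso_hom h₁ h₂ ⟨i⟩).symm
    exact ((DerivedCategory.homologyFunctor B m).map_comp _ _).symm.trans
      (congrArg (DerivedCategory.homologyFunctor B m).map (Sigma.ι_desc _ _))
  rw [e₁]
  infer_instance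

end Generic

attribute [local instance] HasDerivedCategory.standard

variable {X S : Scheme.{u}} (f : X ⟶ S) [QuasiCompact f] [QuasiSeparated f] [DCoh.HasRpush f]

theorem isIso_sigmaDesc_rpush_of_isGE {ι : Type u} (K : ι → DCoh.D X) (n : ℤ)
    (hK : ∀ i, (K i).IsGE n) [HasCoproduct K] [HasCoproduct (fun i => (DCoh.Rpush f).obj (K i))] :
    IsIso (Sigma.desc (fun i => (DCoh.Rpush f).map (Sigma.ι K i))) := by
  haveI : HasFiniteBiproducts X.Modules := Abelian.hasFiniteBiproducts
  haveI : HasFiniteBiproducts S.Modules := Abelian.hasFiniteBiproducts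
  haveI : AB4OfSize.{u} X.Modules := AB4.of_AB5 X.Modules
  haveI : AB4OfSize.{u} S.Modules := AB4.of_AB5 S.Modules
  haveI := preservesCoproducts_pushforward f ι
  refine isIso_sigmaDesc_of_homology (DCoh.Rpush f) K
    (fun i => DerivedCategory.Q.objPreimage (K i))
    (fun i => DerivedCategory.Q.objObjPreimageIso (K i)) fun m => ?_
  refine nonempty_isColimit_rpH_of_isGE f qcFlasqueM_colimit_injective_discrete
    (coproductIsCoproduct fun i => DerivedCategory.Q.objPreimage (K i)) n (fun j => ?_) m
  haveI := hK j.as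
  haveI := DerivedCategory.TStructure.t.isGE_of_iso
    (DerivedCategory.Q.objObjPreimageIso (K j.as)).symm n
  exact (DerivedCategory.isGE_Q_obj_iff (DerivedCategory.Q.objPreimage (K j.as)) n).1 this

theorem isIso_sigmaDesc_rpush_of_isQCohD {ι : Type u} (K : ι → DCoh.D X)
    (hK : ∀ i, DCoh.IsQCohD (K i)) [HasCoproduct K]
    [HasCoproduct (fun i => (DCoh.Rpush f).obj (K i))] :
    IsIso (Sigma.desc (fun i => (DCoh.Rpush f).map (Sigma.ι K i))) := by
  haveI : HasFiniteBiproducts X.Modules := Abelian.hasFiniteBiproducts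
  haveI : HasFiniteBiproducts S.Modules := Abelian.hasFiniteBiproducts
  haveI : AB4OfSize.{u} X.Modules := AB4.of_AB5 X.Modules
  haveI : AB4OfSize.{u} S.Modules := AB4.of_AB5 S.Modules
  haveI := preservesCoproducts_pushforward f ι
  refine isIso_sigmaDesc_of_homology (DCoh.Rpush f) K
    (fun i => DerivedCategory.Q.objPreimage (K i))
    (fun i => DerivedCategory.Q.objObjPreimageIso (K i)) fun m => ?_
  refine nonempty_isColimit_rpH_of_isQCohD f qcFlasqueM_colimit_injective_discrete
    (coproductIsCoproduct fun i => DerivedCategory.Q.objPreimage (K i)) (fun j q => ?_) m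
  exact @QCohLib.isQCoh_of_iso _ _ _ ((DerivedCategory.homologyFunctor X.Modules q).mapIso
    (DerivedCategory.Q.objObjPreimageIso (K j.as))).symm (hK j.as q)

end FiltSectLib
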