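import Groth.Agent.FiltSectLib.QcFlasque
import Mathlib.Topology.Sheaves.Stalks

/-!
# Sections of filtered colimits over quasi-compact opens
-/

set_option autoImplicit false
set_option linter.style.haveILetI false

universe u

open CategoryTheory CategoryTheory.Limits TopologicalSpace Opposite QCohLib

namespace FiltSectLib

variable {X : TopCat.{u}} {J : Type u} [SmallCategory J] [IsFiltered J]
  (D : J ⥤ AbSh X) {c : Cocone D} (hc : IsColimit c)

/-- Restriction. -/
abbrev rs {F : AbSh X} {V U : Opens X} (h : V ≤ U) (s : F.obj.obj (op U)) : F.obj.obj (op V) :=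
  F.obj.map (homOfLE h).op s

theorem rs_rs {F : AbSh X} {W V U : Opens X} (h : W ≤ V) (h' : V ≤ U) (s : F.obj.obj (op U)) :
    rs h (rs h' s) = rs (h.trans h') s := by
  simp only [rs]
  rw [← ConcreteCategory.comp_apply, ← Functor.map_comp]
  rfl

theorem app_rs {F G : AbSh X} (φ : F ⟶ G) {V U : Opens X} (h : V ≤ U) (s : F.obj.obj (op U)) :
    φ.hom.app (op V) (rs h s) = rs h (φ.hom.app (op U) s) :=
  congr($(φ.hom.naturality (homOfLE h).op) s)

theorem app_comp {F G H : AbSh X} (φ : F ⟶ G) (ψ : G ⟶ H) {U : Opens X} (s : F.obj.obj (op U)) :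
    (φ ≫ ψ).hom.app (op U) s = ψ.hom.app (op U) (φ.hom.app (op U) s) := rfl

theorem app_map_comp {i j k : J} (a : i ⟶ j) (b : j ⟶ k) {U : Opens X}
    (s : (D.obj i).obj.obj (op U)) :
    (D.map (a ≫ b)).hom.app (op U) s = (D.map b).hom.app (op U) ((D.map a).hom.app (op U) s) := by
  rw [D.map_comp, app_comp]

/-- Stalks. -/
noncomputable abbrev stalkF (p : X) : AbSh X ⥤ AddCommGrpCat.{u} :=
  TopCat.Sheaf.forget AddCommGrpCat.{u} X ⋙ TopCat.Presheaf.stalkFunctor AddCommGrpCat.{u} p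

instance preservesColimits_stalkF (p : X) : PreservesColimitsOfSize.{u, u} (stalkF p) :=
  inferInstanceAs (PreservesColimitsOfSize.{u, u} (TopCat.Sheaf.forget AddCommGrpCat.{u} X ⋙
    TopCat.Presheaf.stalkFunctor AddCommGrpCat.{u} p))

variable {D}
include hc

theorem exists_local_eq_zero {j : J} {U : Opens X} (s : (D.obj j).obj.obj (op U))
    (hs : (c.ι.app j).hom.app (op U) s = 0) (p : X) (hp : p ∈ U) :
    ∃ (k : J) (f : j ⟶ k) (W : Opens X) (hW : W ≤ U), p ∈ W ∧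
      rs hW ((D.map f).hom.app (op U) s) = 0 := by
  have hz : (stalkF p).map (c.ι.app j) (TopCat.Presheaf.germ (D.obj j).obj U p hp s) =
      (stalkF p).map (c.ι.app j) 0 := by
    rw [map_zero]
    exact (TopCat.Presheaf.stalkFunctor_map_germ_apply U p hp (c.ι.app j).hom s).trans
      ((congrArg (TopCat.Presheaf.germ c.pt.obj U p hp) hs).trans (map_zero _))
  obtain ⟨k, f, g, hfg⟩ := Concrete.isColimit_exists_of_rep_eq (D ⋙ stalkF p)
    (isColimitOfPreserves (stalkF p) hc) _ _ hz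
  have hg : (stalkF p).map (D.map g) (0 : (stalkF p).obj (D.obj j)) = 0 := map_zero _
  have h1 : TopCat.Presheaf.germ (D.obj k).obj U p hp ((D.map f).hom.app (op U) s) =
      TopCat.Presheaf.germ (D.obj k).obj U p hp 0 :=
    ((TopCat.Presheaf.stalkFunctor_map_germ_apply U p hp (D.map f).hom s).symm.trans
      (hfg.trans hg)).trans (map_zero _).symm
  obtain ⟨W, hpW, i, i', h⟩ := TopCat.Presheaf.germ_eq (D.obj k).obj p hp hp _ _ h1
  exact ⟨k, f, W, i.le, hpW, h.trans (map_zero _)⟩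

theorem exists_eq_zero {j : J} {U : Opens X} (hU : IsCompact (U : Set X))
    (s : (D.obj j).obj.obj (op U)) (hs : (c.ι.app j).hom.app (op U) s = 0) :
    ∃ (k : J) (f : j ⟶ k), (D.map f).hom.app (op U) s = 0 := by
  classical
  choose k f W hW hpW hz using fun p : (U : Set X) => exists_local_eq_zero hc s hs p.1 p.2
  obtain ⟨t, ht⟩ := hU.elim_finite_subcover (fun p => (W p : Set X)) (fun p => (W p).isOpen)
    (fun q hq => Set.mem_iUnion.2 ⟨⟨q, hq⟩, hpW ⟨q, hq⟩⟩)
  obtain ⟨m, g, hg⟩ : ∃ (m : J) (g : j ⟶ m), ∀ p ∈ t,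
      rs (hW p) ((D.map g).hom.app (op U) s) = 0 := by
    clear ht
    induction t using Finset.induction_on with
    | empty => exact ⟨j, 𝟙 j, fun p hp => by simp at hp⟩
    | @insert p t' _ ih =>
      obtain ⟨m, g, hg⟩ := ih
      obtain ⟨m', a, b, hab⟩ := IsFiltered.span g (f p)
      refine ⟨m', g ≫ a, fun q hq => ?_⟩
      rcases Finset.mem_insert.1 hq with rfl | hq
      · rw [hab, app_map_comp, ← app_rs, hz, map_zero]
      · rw [app_map_comp, ← app_rs, hg q hq, map_zero]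
  refine ⟨m, g, TopCat.Sheaf.eq_of_locally_eq' (D.obj m : TopCat.Sheaf AddCommGrpCat X)
    (fun p : t => W p.1) U (fun p => homOfLE (hW p.1)) (fun q hq => ?_) _ _ fun p => ?_⟩
  · have := ht hq
    simp only [Set.mem_iUnion] at this
    obtain ⟨p, hp, hq'⟩ := this
    exact Opens.mem_iSup.2 ⟨⟨p, hp⟩, hq'⟩
  · exact (hg p.1 p.2).trans (map_zero _).symm

theorem exists_local_lift {U : Opens X} (t : c.pt.obj.obj (op U)) (p : X) (hp : p ∈ U) :
    ∃ (j : J) (W : Opens X) (hW : W ≤ U) (a : (D.obj j).obj.obj (op W)), p ∈ W ∧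
      (c.ι.app j).hom.app (op W) a = rs hW t := by
  obtain ⟨j, y, hy⟩ := Concrete.isColimit_exists_rep (D ⋙ stalkF p)
    (isColimitOfPreserves (stalkF p) hc) (TopCat.Presheaf.germ c.pt.obj U p hp t)
  obtain ⟨W, hpW, a, rfl⟩ := TopCat.Presheaf.germ_exist (D.obj j).obj y
  have h1 : TopCat.Presheaf.germ c.pt.obj W p hpW ((c.ι.app j).hom.app (op W) a) = TopCat.Presheaf.germ c.pt.obj U p hp t :=
    (TopCat.Presheaf.stalkFunctor_map_germ_apply W p hpW (c.ι.app j).hom a).symm.trans hy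
  obtain ⟨W', hpW', i, i', h⟩ := TopCat.Presheaf.germ_eq c.pt.obj p hpW hp _ _ h1
  exact ⟨j, W', i'.le, rs i.le a, hpW', (app_rs _ _ _).trans h⟩

variable (hX : Opens.IsBasis {U : Opens X | IsCompact (U : Set X)})
include hX

theorem exists_lift {U : Opens X} (hU : IsCompact (U : Set X)) (hU' : IsQuasiSeparated (U : Set X))
    (t : c.pt.obj.obj (op U)) :
    ∃ (j : J) (s : (D.obj j).obj.obj (op U)), (c.ι.app j).hom.app (op U) s = t := by
  classical
  choose j₀ W₀ hW₀ a₀ hpW₀ ha₀ using fun p : (U : Set X) => exists_local_lift hc t p.1 p.2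
  choose W hWc hpW hWW using fun p : (U : Set X) => Opens.isBasis_iff_nbhd.mp hX (hpW₀ p)
  obtain ⟨T, hT⟩ := hU.elim_finite_subcover (fun p => (W p : Set X)) (fun p => (W p).isOpen)
    (fun q hq => Set.mem_iUnion.2 ⟨⟨q, hq⟩, hpW ⟨q, hq⟩⟩)
  have hWU : ∀ p, W p ≤ U := fun p => (hWW p).trans (hW₀ p)
  let js : Finset J := T.image j₀
  obtain ⟨k, hk⟩ := IsFiltered.sup_objs_exists js
  let g : ∀ p : T, j₀ p.1 ⟶ k := fun p => (hk (Finset.mem_image_of_mem _ p.2)).some
  let a : ∀ p : T, (D.obj k).obj.obj (op (W p.1)) := fun p =>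
    (D.map (g p)).hom.app (op (W p.1)) (rs (hWW p.1) (a₀ p.1))
  have ha : ∀ p : T, (c.ι.app k).hom.app (op (W p.1)) (a p) = rs (hWU p.1) t := fun p => by
    rw [← app_comp, c.w, app_rs, ha₀, rs_rs]
    rfl
  have hpair : ∀ q : T × T, ∃ (m : J) (f : k ⟶ m), (D.map f).hom.app (op (W q.1.1 ⊓ W q.2.1))
      (rs (inf_le_left : W q.1.1 ⊓ W q.2.1 ≤ _) (a q.1) -
        rs (inf_le_right : W q.1.1 ⊓ W q.2.1 ≤ _) (a q.2)) = 0 := fun q => by
    refine exists_eq_zero hc ?_ _ ?_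
    · rw [Opens.coe_inf]
      exact hU' _ _ (hWU q.1.1) (W q.1.1).isOpen (hWc q.1.1) (hWU q.2.1) (W q.2.1).isOpen (hWc q.2.1)
    · rw [map_sub, app_rs, app_rs, ha, ha, rs_rs, rs_rs, sub_self]
  choose m f hf using hpair
  obtain ⟨M, F, hF⟩ : ∃ (M : J) (F : k ⟶ M), ∀ q ∈ (Finset.univ : Finset (T × T)),
      (D.map F).hom.app (op (W q.1.1 ⊓ W q.2.1))
        (rs (inf_le_left : W q.1.1 ⊓ W q.2.1 ≤ _) (a q.1) -
          rs (inf_le_right : W q.1.1 ⊓ W q.2.1 ≤ _) (a q.2)) = 0 := by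
    induction (Finset.univ : Finset (T × T)) using Finset.induction_on with
    | empty => exact ⟨k, 𝟙 k, fun p hp => by simp at hp⟩
    | @insert q s _ ih =>
      obtain ⟨M, F, hF⟩ := ih
      obtain ⟨M', u, v, huv⟩ := IsFiltered.span F (f q)
      refine ⟨M', F ≫ u, fun r hr => ?_⟩
      rcases Finset.mem_insert.1 hr with rfl | hr
      · rw [huv, app_map_comp, hf, map_zero]
      · rw [app_map_comp, hF r hr, map_zero]
  obtain ⟨s, hs, -⟩ := TopCat.Sheaf.existsUnique_gluing'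
    (D.obj M : TopCat.Sheaf AddCommGrpCat X) (fun p : T => W p.1) U (fun p => homOfLE (hWU p.1))
    (fun q hq => by
      have := hT hq
      simp only [Set.mem_iUnion] at this
      obtain ⟨p, hp, hq'⟩ := this
      exact Opens.mem_iSup.2 ⟨⟨p, hp⟩, hq'⟩)
    (fun p => (D.map F).hom.app (op (W p.1)) (a p))
    (fun p q => by
      have h := hF (p, q) (Finset.mem_univ _)
      rw [map_sub, sub_eq_zero, app_rs, app_rs] at h
      exact h)
  refine ⟨M, s, TopCat.Sheaf.eq_of_locally_eq' (c.pt : TopCat.Sheaf AddCommGrpCat X)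
    (fun p : T => W p.1) U (fun p => homOfLE (hWU p.1)) (fun q hq => ?_) _ _ fun p => ?_⟩
  · have := hT hq
    simp only [Set.mem_iUnion] at this
    obtain ⟨p, hp, hq'⟩ := this
    exact Opens.mem_iSup.2 ⟨⟨p, hp⟩, hq'⟩
  · refine (app_rs (c.ι.app M) (hWU p.1) s).symm.trans ?_
    refine (congrArg ((c.ι.app M).hom.app (op (W p.1))) (hs p)).trans ?_
    rw [← app_comp, c.w]
    exact ha p

/-- Filtered colimits of sheaves flasque on quasi-compact opens are so. -/
theorem qcFlasque_colimit (h : ∀ j, QcFlasque (D.obj j)) : QcFlasque c.pt := fun V U hVU hV hU hU' t => by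
  obtain ⟨j, s, rfl⟩ := exists_lift hc hX hV
    (fun _ _ h₁ a b h₂ c d => hU' _ _ (h₁.trans hVU) a b (h₂.trans hVU) c d) t
  obtain ⟨s', rfl⟩ := h j hVU hV hU hU' s
  exact ⟨(c.ι.app j).hom.app (op U) s', (app_rs (c.ι.app j) hVU s').symm⟩

end FiltSectLib
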