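import Groth.Agent.FiltSectLib.Sections
import Groth.Agent.FiltSectLib.Discrete
import Groth.Agent.QCohLib.Modules
import Groth.Agent.QCohLib.AffineFinite
import Groth.Agent.QCohLib.Push
import Groth.Agent.RpushLib.Comp
import Groth.Agent.RpushLib.Ab
import Groth.Agent.RpushLib.Flasque

/-!
# Direct images along quasi-compact quasi-separated morphisms and filtered colimits
-/

set_option autoImplicit false
set_option linter.style.haveILetI false

universe u

open CategoryTheory CategoryTheory.Limits AlgebraicGeometry TopologicalSpace Opposite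
open QCohLib (toAbF)

namespace FiltSectLib

variable {X Y : Scheme.{u}}

theorem isBasis_compact (X : Scheme.{u}) :
    Opens.IsBasis {U : Opens X.toTopCat | IsCompact (U : Set X.toTopCat)} :=
  Opens.isBasis_iff_nbhd.mpr fun hp => by
    obtain ⟨W, hW, hpW, hWU⟩ := Opens.isBasis_iff_nbhd.mp X.isBasis_affineOpens hp
    exact ⟨W, hW.isCompact, hpW, hWU⟩

/-- Flasque on quasi-compact opens, for modules. -/
def QcFlasqueM (M : X.Modules) : Prop := QcFlasque ((toAbF X).obj M)

theorem qcFlasqueM_of_injective (M : X.Modules) [Injective M] : QcFlasqueM M :=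
  fun _ _ h _ _ _ => RpushLib.surjective_map_injective M h

theorem qcFlasqueM_colimit {J : Type u} [SmallCategory J] [IsFiltered J] (D : J ⥤ X.Modules)
    {c : Cocone D} (hc : IsColimit c) (h : ∀ j, QcFlasqueM (D.obj j)) : QcFlasqueM c.pt :=
  qcFlasque_colimit (isColimitOfPreserves (toAbF X) hc) (isBasis_compact X) h

variable (f : X ⟶ Y) [QuasiCompact f] [QuasiSeparated f]

theorem isZero_Rpush_of_qcFlasque [HasInjectiveResolutions X.Modules] (M : X.Modules)
    (hM : QcFlasqueM M) (i : ℕ) (hi : 0 < i) : IsZero ((Coh.Rpush f i).obj M) := by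
  obtain ⟨e⟩ := RpushLib.nonempty_toAb_rpush_iso f M i
  have h : QCohLib.AcyclicAbove f.base (QCohLib.affSet Y) 0 ((toAbF X).obj M) := fun V hV n _ =>
    subsingleton_of_qcFlasque (isBasis_compact X) n hM
      (f.isCompact_preimage (IsAffineOpen.isCompact hV))
      (f.isQuasiSeparated_preimage (IsAffineOpen.isQuasiSeparated hV))
  exact RpushLib.isZero_of_isZero_toAb
    ((QCohLib.isZero_rightDerived QCohLib.isBasis_affSet h hi).of_iso e)

/-- `f_*` commutes with filtered colimits. -/
theorem preservesFilteredColimit_pushforward (J : Type u) [SmallCategory J] [IsFiltered J] :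
    PreservesColimitsOfShape J (Scheme.Modules.pushforward f) := by
  refine ⟨fun {D} => ⟨fun {c} hc => ?_⟩⟩
  let F := Scheme.Modules.pushforward f
  let c' := colimit.cocone (D ⋙ F)
  let hc' : IsColimit c' := colimit.isColimit (D ⋙ F)
  let φ := hc'.desc (F.mapCocone c)
  let hX := isColimitOfPreserves (toAbF X) hc
  let hY := isColimitOfPreserves (toAbF Y) hc'
  have hfac : ∀ (j : J) {V : Y.Opens} (s : Γ(F.obj (D.obj j), V)),
      φ.app V ((c'.ι.app j).app V s) = (c.ι.app j).app (f ⁻¹ᵁ V) s := fun j V s =>
    congrArg (fun ψ => ψ.app V s) (hc'.fac (F.mapCocone c) j)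
  haveI : IsIso φ := QCohLib.isIso_of_bijective_affine φ fun V hV => by
    have hc₁ : IsCompact ((f ⁻¹ᵁ V : X.Opens) : Set X) := f.isCompact_preimage hV.isCompact
    have hq₁ := f.isQuasiSeparated_preimage hV.isQuasiSeparated
    constructor
    · refine (injective_iff_map_eq_zero _).2 fun z hz => ?_
      obtain ⟨j, s, rfl⟩ := exists_lift hY (isBasis_compact Y) hV.isCompact hV.isQuasiSeparated z
      have hz' : (c.ι.app j).app (f ⁻¹ᵁ V) s = 0 := (hfac j s).symm.trans hz
      obtain ⟨k, g, hg⟩ := exists_eq_zero hX (U := f ⁻¹ᵁ V) hc₁ s hz'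
      have e := congrArg (fun ψ => ψ.app V s) (c'.w g)
      refine e.symm.trans ?_
      exact (congrArg ((c'.ι.app k).app V) hg).trans (map_zero _)
    · intro t
      obtain ⟨j, s, hs⟩ := exists_lift hX (isBasis_compact X) (U := f ⁻¹ᵁ V) hc₁ hq₁ t
      exact ⟨(c'.ι.app j).app V s, (hfac j s).trans hs⟩
  exact ⟨IsColimit.ofPointIso (i := ‹IsIso φ›) hc'⟩

/-- `f_*` commutes with coproducts. -/
theorem preservesCoproducts_pushforward (ι : Type u) :
    PreservesColimitsOfShape (Discrete ι) (Scheme.Modules.pushforward f) := by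
  haveI : PreservesFiniteBiproducts (Scheme.Modules.pushforward f) :=
    Functor.preservesFiniteBiproductsOfAdditive _
  haveI : PreservesFiniteCoproducts (Scheme.Modules.pushforward f) :=
    ⟨fun n => preservesCoproductsOfShape_of_preservesBiproductsOfShape _⟩
  haveI := preservesFilteredColimit_pushforward f (Finset (Discrete ι))
  exact preservesColimitsOfShape_discrete (Scheme.Modules.pushforward f) ι

end FiltSectLib
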