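import Groth.Agent.FiltSectLib.Comm
import Groth.Agent.KFlatLib.QCohDev
import Groth.Agent.QCohLib.QCoh

/-!
# `Rf_*` commutes with colimits of complexes with quasi-coherent cohomology; coproducts
-/

set_option autoImplicit false
set_option linter.style.haveILetI false

universe u

open CategoryTheory CategoryTheory.Limits AlgebraicGeometry Pretriangulated HomologicalComplex

attribute [local instance] HasDerivedCategory.standard

namespace FiltSectLib

variable {X Y : Scheme.{u}}

theorem qcFlasqueM_colimit_injective_filtered {J : Type u} [SmallCategory J] [IsFiltered J]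
    (D : J ⥤ X.Modules) (c : Cocone D) (hc : IsColimit c) (h : ∀ j, Injective (D.obj j)) :
    QcFlasqueM c.pt :=
  qcFlasqueM_colimit D hc fun j => have := h j; qcFlasqueM_of_injective _

theorem qcFlasqueM_of_iso {M N : X.Modules} (e : M ≅ N) (h : QcFlasqueM M) : QcFlasqueM N :=
  fun V U hVU hV hU hU' s => by
    obtain ⟨t, ht⟩ := h hVU hV hU hU' (e.inv.app V s)
    refine ⟨e.hom.app U t, ?_⟩
    refine (congr($(e.hom.mapPresheaf.naturality (homOfLE hVU).op) t)).symm.trans ?_
    exact (congrArg (e.hom.app V) ht).trans (congrArg (fun φ => φ.app V s) e.inv_hom_id)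

theorem qcFlasqueM_colimit_injective_discrete {ι : Type u} (D : Discrete ι ⥤ X.Modules) (c : Cocone D)
    (hc : IsColimit c) (h : ∀ j, Injective (D.obj j)) : QcFlasqueM c.pt := by
  let cc := CoproductsFromFiniteFiltered.liftToFinsetColimitCocone D
  refine qcFlasqueM_of_iso (cc.isColimit.coconePointUniqueUpToIso hc) ?_
  refine qcFlasqueM_colimit (CoproductsFromFiniteFiltered.liftToFinsetObj D)
    (colimit.isColimit (CoproductsFromFiniteFiltered.liftToFinsetObj D)) fun S => ?_
  haveI : ∀ x : S, Injective (D.obj x.1) := fun x => h x.1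
  haveI : HasFiniteBiproducts X.Modules := HasFiniteBiproducts.of_hasFiniteProducts
  haveI : Injective (⨁ fun x : S => D.obj x.1) := Injective.of_iso (biproduct.isoProduct _).symm inferInstance
  exact qcFlasqueM_of_iso (biproduct.isoCoproduct fun x : S => D.obj x.1) (qcFlasqueM_of_injective _)

theorem isQCohD_toD {K : CochainComplex X.Modules ℤ} :
    DCoh.IsQCohD (DerivedCategory.Q.obj K) ↔ ∀ q, Coh.IsQCoh (K.homology q) := by
  refine ⟨fun h q => ?_, fun h q => ?_⟩
  · exact @QCohLib.isQCoh_of_iso _ _ _ ((DerivedCategory.homologyFunctorFactors X.Modules q).app K) (h q)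
  · exact @QCohLib.isQCoh_of_iso _ _ _
      ((DerivedCategory.homologyFunctorFactors X.Modules q).app K).symm (h q)

variable (f : X ⟶ Y) [QuasiCompact f] [QuasiSeparated f] [DCoh.HasRpush f]

/-- Maps of objects with quasi-coherent cohomology which are isomorphisms in high degrees. -/
theorem isIso_stalk_rpH_map {K L : CochainComplex X.Modules ℤ} (φ : K ⟶ L)
    (hK : DCoh.IsQCohD (DerivedCategory.Q.obj K)) (hL : DCoh.IsQCohD (DerivedCategory.Q.obj L))
    {V : Y.Opens} {d : ℕ}
    (hd : ∀ (E : DCoh.D X) (b : ℤ), E.IsLE b → DCoh.IsQCohD E → ∀ m : ℤ, b + (d : ℤ) ≤ m →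
      QRlimLib.ZeroOn ((DCoh.Rpush f).obj E) V m)
    (a : ℤ) (h : ∀ q, a ≤ q → IsIso (homologyMap φ q)) (m : ℤ) (hm : a + (d : ℤ) ≤ m)
    (y : Y) (hy : y ∈ V) :
    IsIso ((DerSch.stalkFunctor Y y).map ((rpH f m).map φ)) := by
  obtain ⟨C, g, δ, hT⟩ := Pretriangulated.distinguished_cocone_triangle (DerivedCategory.Q.map φ)
  have hC : DCoh.IsQCohD C :=
    KFlatLib.isQCohD₂ (T := (Triangle.mk (DerivedCategory.Q.map φ) g δ).rotate)
      (rot_of_distTriang _ hT) hL (KFlatLib.isQCohD_shift hK 1)
  have hφ : ∀ q, a ≤ q →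
      IsIso ((DerivedCategory.homologyFunctor X.Modules q).map (DerivedCategory.Q.map φ)) := fun q hq =>
    (NatIso.isIso_map_iff (DerivedCategory.homologyFunctorFactors X.Modules q) φ).2 (h q hq)
  haveI : C.IsLE (a - 1) := by
    rw [DerivedCategory.isLE_iff]
    intro q hq'
    refine (DerivedCategory.HomologySequence.exact₃ _ hT q (q + 1) rfl).isZero_of_both_zeros ?_ ?_
    · haveI := hφ q (by omega)
      exact (cancel_epi ((DerivedCategory.homologyFunctor X.Modules q).map (DerivedCategory.Q.map φ))).1 (by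
        refine Eq.trans ?_ comp_zero.symm
        refine ((DerivedCategory.homologyFunctor X.Modules q).map_comp _ _).symm.trans ?_
        exact (congrArg _ (comp_distTriang_mor_zero₁₂ _ hT)).trans (Functor.map_zero _ _ _))
    · haveI := hφ (q + 1) (by omega)
      exact (cancel_mono ((DerivedCategory.homologyFunctor X.Modules (q + 1)).map (DerivedCategory.Q.map φ))).1
        ((DerivedCategory.HomologySequence.δ_comp _ hT q (q + 1) rfl).trans zero_comp.symm)
  obtain ⟨_, _⟩ := QRlimLib.exists_isTriangulated_rpush f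
  have hRT := (DCoh.Rpush f).map_distinguished _ hT
  refine isIso_stalk_of_bijective _ V (fun U hU => ?_) y hy
  exact QRlimLib.bijective_of_exact (DerivedCategory.HomologySequence.exact₁ _ hRT (m - 1) m (by omega))
    (DerivedCategory.HomologySequence.exact₂ _ hRT m)
    (fun W hW => hd C (a - 1) ‹_› hC (m - 1) (by omega) W hW)
    (fun W hW => hd C (a - 1) ‹_› hC m (by omega) W hW) U hU

variable {J : Type u} [SmallCategory J] [HasExactColimitsOfShape J X.Modules]
  [HasExactColimitsOfShape J Y.Modules] [PreservesColimitsOfShape J (Scheme.Modules.pushforward f)]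
  (hJ : ∀ (D : J ⥤ X.Modules) (c : Cocone D), IsColimit c → (∀ j, Injective (D.obj j)) → QcFlasqueM c.pt)

include hJ

/-- `Rf_*` commutes with colimits of complexes with quasi-coherent cohomology. -/
theorem nonempty_isColimit_rpH_of_isQCohD {C : J ⥤ CochainComplex X.Modules ℤ} {c : Cocone C}
    (hc : IsColimit c) (hC : ∀ j, DCoh.IsQCohD (DerivedCategory.Q.obj (C.obj j))) (m : ℤ) :
    Nonempty (IsColimit ((rpH f m).mapCocone c)) := by
  refine isColimit_of_stalks _ fun y => ?_
  obtain ⟨V, hV, hy, -⟩ := TopologicalSpace.Opens.isBasis_iff_nbhd.mp Y.isBasis_affineOpens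
    (U := ⊤) (x := y) trivial
  obtain ⟨d, hd⟩ := QRlimLib.exists_bound f hV
  let a : ℤ := m - d
  let T := (ComplexShape.embeddingUpIntGE a).truncGEFunctor X.Modules
  let τ : C ⟶ C ⋙ T :=
    C.rightUnitor.inv ≫ Functor.whiskerLeft C ((ComplexShape.embeddingUpIntGE a).πTruncGENatTrans X.Modules)
  let c' := colimit.cocone (C ⋙ T)
  let hc' : IsColimit c' := colimit.isColimit (C ⋙ T)
  let g : c.pt ⟶ c'.pt := hc.map c' τ
  have w : ∀ j, c.ι.app j ≫ g = τ.app j ≫ c'.ι.app j := fun j => hc.ι_map c' τ j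
  have hτ : ∀ j q, a ≤ q → IsIso (homologyMap (τ.app j) q) := fun j q hq => by
    have e : τ.app j = (C.obj j).πTruncGE a := by simp [τ]; rfl
    rw [e]
    exact (quasiIsoAt_iff_isIso_homologyMap _ _).1 ((C.obj j).quasiIsoAt_πTruncGE a q hq)
  have hg : ∀ q, a ≤ q → IsIso (homologyMap g q) := fun q hq =>
    isIso_homologyMap_colimit hc hc' τ g w q fun j => hτ j q hq
  have hge : ∀ j, CochainComplex.IsStrictlyGE ((C ⋙ T).obj j) a := fun j =>
    (inferInstance : ((C.obj j).truncGE a).IsStrictlyGE a)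
  have hqT : ∀ j, DCoh.IsQCohD (DerivedCategory.Q.obj ((C ⋙ T).obj j)) := fun j => by
    rw [isQCohD_toD]
    intro q
    by_cases hq : a ≤ q
    · haveI := hτ j q hq
      exact @QCohLib.isQCoh_of_iso _ _ _ (asIso (homologyMap (τ.app j) q))
        (isQCohD_toD.1 (hC j) q)
    · haveI := hge j
      exact KFlatLib.isQCoh_zero
        (CochainComplex.isZero_of_isGE ((C ⋙ T).obj j) a q (by omega))
  have hqc : ∀ {K : J ⥤ CochainComplex X.Modules ℤ} {k : Cocone K}, IsColimit k →
      (∀ j, DCoh.IsQCohD (DerivedCategory.Q.obj (K.obj j))) →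
        DCoh.IsQCohD (DerivedCategory.Q.obj k.pt) := fun {K k} hk h => by
    rw [isQCohD_toD]
    intro q
    exact QCohLib.isQCoh_of_isColimit (fun _ => inferInstance) (fun j => isQCohD_toD.1 (h j) q)
      (Groth.Agent.FreeResLib.isColimitHomology K hk q)
  obtain ⟨h'⟩ := nonempty_isColimit_rpH_of_isGE f hJ hc' a
    (fun j => by haveI := hge j; infer_instance) m
  let G := rpH f m ⋙ DerSch.stalkFunctor Y y
  haveI : ∀ j, IsIso ((Functor.whiskerRight τ G).app j) := fun j =>
    isIso_stalk_rpH_map f (τ.app j) (hC j) (hqT j) hd a (hτ j) m (by omega) y hy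
  haveI : IsIso (G.map g) :=
    isIso_stalk_rpH_map f g (hqc hc hC) (hqc hc' hqT) hd a hg m (by omega) y hy
  exact isColimit_source (c := G.mapCocone c) (c' := G.mapCocone c')
    (Functor.whiskerRight τ G) (G.map g)
    (fun j => (G.map_comp _ _).symm.trans ((congrArg G.map (w j)).trans (G.map_comp _ _)))
    (isColimitOfPreserves (DerSch.stalkFunctor Y y) h')

end FiltSectLib
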