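import Groth.Agent.QCohLib.AbCoh

/-!
# Sheaves flasque on quasi-compact opens
-/

set_option autoImplicit false
set_option linter.style.haveILetI false

universe u

open CategoryTheory CategoryTheory.Limits TopologicalSpace Opposite CategoryTheory.Abelian QCohLib

namespace FiltSectLib

variable {X : TopCat.{u}}

/-- Sections extend between quasi-compact opens of quasi-separated opens. -/
def QcFlasque (F : AbSh X) : Prop :=
  ∀ ⦃V U : Opens X⦄ (h : V ≤ U), IsCompact (V : Set X) → IsCompact (U : Set X) →
    IsQuasiSeparated (U : Set X) →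
    Function.Surjective (F.obj.map (homOfLE h).op)

theorem qcFlasque_of_isFlasque (F : AbSh X) [TopCat.Sheaf.IsFlasque (F : TopCat.Sheaf AddCommGrpCat X)] :
    QcFlasque F := fun V U h _ _ _ =>
  (AddCommGrpCat.epi_iff_surjective _).mp
    (TopCat.Presheaf.IsFlasque.epi (self := ‹TopCat.Sheaf.IsFlasque (F : TopCat.Sheaf AddCommGrpCat X)›)
      (homOfLE h).op)

variable (hX : Opens.IsBasis {U : Opens X | IsCompact (U : Set X)})
include hX

theorem eq_zero_of_qcFlasque {F : AbSh X} (hF : QcFlasque F) {U : Opens X} (hU : IsCompact (U : Set X))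
    (hU' : IsQuasiSeparated (U : Set X)) (x : HU F 1 U) : x = 0 := by
  classical
  choose V i hpV hx using fun p : (U : Set X) => exists_res_eq_zero 0 x (p := p.1) p.2
  choose W hWc hpW hWV using fun p : (U : Set X) => Opens.isBasis_iff_nbhd.mp hX (hpV p)
  obtain ⟨t, ht⟩ := hU.elim_finite_subcover (fun p => (W p : Set X)) (fun p => (W p).isOpen)
    (fun q hq => Set.mem_iUnion.2 ⟨⟨q, hq⟩, hpW ⟨q, hq⟩⟩)
  have hWU : ∀ p, W p ≤ U := fun p => (hWV p).trans (i p).le
  suffices H : ∀ (s : Finset (U : Set X)), IsCompact ((s.sup W : Opens X) : Set X) ∧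
      ∀ (h : s.sup W ≤ U), res (homOfLE h) x = 0 by
    have hsup : t.sup W = U := by
      refine le_antisymm (Finset.sup_le fun p _ => hWU p) fun q hq => ?_
      have := ht hq
      simp only [Set.mem_iUnion] at this
      obtain ⟨p, hp, hq'⟩ := this
      exact (Finset.le_sup hp : W p ≤ t.sup W) hq'
    have h := (H t).2 hsup.le
    have e : res (homOfLE hsup.ge) (res (homOfLE hsup.le) x) = 0 := by rw [h, map_zero]
    rw [res_res] at e
    refine Eq.trans ?_ e
    rw [res_apply, show (homOfLE hsup.ge ≫ homOfLE hsup.le : U ⟶ U) = 𝟙 U from rfl, zmap,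
      CategoryTheory.Functor.map_id, Functor.whiskerRight_id', CategoryTheory.Functor.map_id,
      Ext.mk₀_id_comp]
  intro s
  induction s using Finset.induction_on with
  | empty => exact ⟨by simp, fun h => @Subsingleton.elim _ (subsingleton_bot F 1) _ _⟩
  | @insert p s hp ih =>
    have e : (insert p s).sup W = W p ⊔ s.sup W := Finset.sup_insert
    rw [e]
    refine ⟨by rw [Opens.coe_sup]; exact (hWc p).union ih.1, fun h => ?_⟩
    have hsU : s.sup W ≤ U := le_sup_right.trans h
    refine mv_eq_zero _ ?_ ?_ fun y => ?_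
    · rw [res_res, show (homOfLE le_sup_left ≫ homOfLE h : W p ⟶ U) = homOfLE (hWV p) ≫ i p from rfl,
        ← res_res, hx p, map_zero]
    · rw [res_res]
      exact ih.2 hsU
    · obtain ⟨a, ha⟩ := hF (inf_le_left : W p ⊓ s.sup W ≤ W p)
        (by rw [Opens.coe_inf]; exact hU' _ _ (hWU p) (W p).isOpen (hWc p) hsU (s.sup W).isOpen ih.1)
        (hWc p) (fun _ _ h₁ a b h₂ c d => hU' _ _ (h₁.trans (hWU p)) a b (h₂.trans (hWU p)) c d) (h0 y)
      refine ⟨h0.symm a, 0, ?_⟩
      rw [map_zero, sub_zero]
      apply h0.injective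
      rw [h0_res, AddEquiv.apply_symm_apply, ha]

/-- Sheaves flasque on quasi-compact opens have no higher cohomology on quasi-compact opens. -/
theorem subsingleton_of_qcFlasque (n : ℕ) {F : AbSh X} (hF : QcFlasque F) {U : Opens X}
    (hU : IsCompact (U : Set X)) (hU' : IsQuasiSeparated (U : Set X)) :
    Subsingleton (HU F (n + 1) U) := by
  induction n generalizing F with
  | zero => exact subsingleton_of_forall_eq 0 fun x => eq_zero_of_qcFlasque hX hF hU hU' x
  | succ n ih =>
    refine subsingleton_of_forall_eq 0 fun x => ?_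
    have hS := injSeq_shortExact F
    obtain ⟨y, rfl⟩ := exists_eq_comp_extClass (S := injSeq F) hS x
    have hQ : QcFlasque (injSeq F).X₃ := fun V W h hV hW hW' s => by
      have : Subsingleton (HU (injSeq F).X₁ 1 V) :=
        subsingleton_of_forall_eq 0 fun z => eq_zero_of_qcFlasque hX hF hV
          (fun _ _ h₁ a b h₂ c d => hW' _ _ (h₁.trans h) a b (h₂.trans h) c d) z
      obtain ⟨t, rfl⟩ := exists_lift_of_subsingleton hS s
      obtain ⟨t', rfl⟩ := qcFlasque_of_isFlasque (injSeq F).X₂ h hV hW hW' t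
      exact ⟨(injSeq F).g.hom.app (op W) t',
        (congr($((injSeq F).g.hom.naturality (homOfLE h).op) t')).symm⟩
    have := ih hQ
    rw [Subsingleton.elim y 0, Ext.zero_comp]

end FiltSectLib
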